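import Cfsg.Agent.Lib.CosetEnum.HeWord

/-! An upper bound on a subgroup of He generated by letters: 4 cosets. -/
-- BOUND 4

set_option autoImplicit false
set_option maxRecDepth 20000
set_option Elab.async false

namespace Cfsg.Agent.Lib.CosetEnum.HeChain.L2

open Cfsg.Agent.Lib.CosetEnum

/-- Coset table. -/
noncomputable def table : PTree :=
  .leaf 0x100000002000000000000000300000003000000000000000200000001

/-- Vertices of the final cosets. -/
noncomputable def vert : PTree :=
  .leaf 0x2000000030000000100000000

/-- Facts of the table edges. -/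
noncomputable def edge : PTree :=
  .leaf 0x300000004000000060000000500000002000000010000000700000000

/-- All facts. -/
noncomputable def facts : PTree :=
  .leaf 0x10000000000000003000000000000000300000002000000010000000200000001000000000000000100000000

/-- Packed words. -/
noncomputable def words : PTree :=
  .node 2
  (.node 1
  (.leaf 0x1)
  (.leaf 0x100401))
  (.node 3
  (.leaf 0x400)
  (.leaf 0x421))

/-- The certificate data. -/
noncomputable def data : Data :=
  ⟨2, 0x820, facts, words, 4, 4⟩

/-- Steps, part 0. -/
noncomputable def part0 : List (ℕ × ℕ) :=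
  [(1, 0x4000000020000000000000000000000030000000100000000)]

theorem part0_ok : chunks data part0 3 = true ∧ 4 = 3 + chunksLen part0 :=
  ⟨by decide +kernel, by decide +kernel⟩

theorem defs_ok : defsOK data 3 = true := by decide +kernel

theorem good (G : Type) (_ : Group G) (φ : ℕ → G) (H : Subgroup G) (hV : Valid data φ H) :
    ∀ i < 4, Good data 3 φ H i :=
  (chunks_sound hV part0 part0_ok.1 part0_ok.2
      (fun i hi => good_defs defs_ok hi))

theorem edges_part0 : allFrom 0 4 (edgeAt data 4 4 table vert edge) = true := by decide +kernel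

theorem edges_ok : edgesOK data 4 4 table vert edge = true :=
  (allBelow_add (rfl : allBelow 0 (edgeAt data 4 4 table vert edge) = true) edges_part0
    (by omega : 0 + 4 = 4))

theorem rl_ok : ∀ l ∈ ([[],
    [0, 1, 0, 1],
    [0, 0],
    [1, 1]] : List (List ℕ)), (∀ g ∈ l, g < 2) ∧
    (embWord [4, 5] l ∈ He2058.letters.RL ∨ embWord [4, 5] l = [2, 3, 4, 2, 3, 4, 2, 3, 4, 2, 3, 4, 2, 3, 4]) := by
  decide +kernel

/-- The order bound. -/
theorem bound :
    Nat.card (subOf Cfsg.Agent.Lib.CosetEnum.He2058.letters HeWord.pres (([4, 5] : List ℕ).map fun g => [g])) ≠ 0 ∧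
    Nat.card (subOf Cfsg.Agent.Lib.CosetEnum.He2058.letters HeWord.pres (([4, 5] : List ℕ).map fun g => [g])) ≤ 4 :=
  card_le_of_enum_of_trivial Cfsg.Agent.Lib.CosetEnum.He2058.letters HeWord.pres HeWord.rels_mem He2058.letters_ok [4, 5]
    data 3 4 4 table vert edge (by omega) rfl (by decide +kernel) (by decide +kernel)
    (by decide +kernel) [[],
    [0, 1, 0, 1],
    [0, 0],
    [1, 1]] []
    (fun l hl => ⟨(rl_ok l hl).1, (rl_ok l hl).2.elim
      (Letters.prod_rel HeWord.rels_mem He2058.letters_ok He2058.table_ok.col)
      (fun h => h.symm ▸ HeWord.cde5)⟩)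
    (by decide +kernel) rfl rfl (by decide +kernel)
    (fun φ H hV => good _ _ φ H hV) (by decide +kernel) edges_ok 1 (card_subOf_nil _ _)

end Cfsg.Agent.Lib.CosetEnum.HeChain.L2
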